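import Cfsg.Agent.RuLat.Main
import Cfsg.Agent.H51.Ore.Ru.C2a
import Cfsg.Agent.H51.Ore.Ru.C2b
import Cfsg.Agent.H51.Ore.Ru.C3a
import Cfsg.Agent.H51.Ore.Ru.C4a
import Cfsg.Agent.H51.Ore.Ru.C4b
import Cfsg.Agent.H51.Ore.Ru.C4c
import Cfsg.Agent.H51.Ore.Ru.C4d
import Cfsg.Agent.H51.Ore.Ru.C5a
import Cfsg.Agent.H51.Ore.Ru.C5b
import Cfsg.Agent.H51.Ore.Ru.C6a
import Cfsg.Agent.H51.Ore.Ru.C7a
import Cfsg.Agent.H51.Ore.Ru.C8a
import Cfsg.Agent.H51.Ore.Ru.C8b
import Cfsg.Agent.H51.Ore.Ru.C8c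
import Cfsg.Agent.H51.Ore.Ru.C10a
import Cfsg.Agent.H51.Ore.Ru.C10b
import Cfsg.Agent.H51.Ore.Ru.C12a
import Cfsg.Agent.H51.Ore.Ru.C12b
import Cfsg.Agent.H51.Ore.Ru.C13a
import Cfsg.Agent.H51.Ore.Ru.C14a
import Cfsg.Agent.H51.Ore.Ru.C14b
import Cfsg.Agent.H51.Ore.Ru.C14c
import Cfsg.Agent.H51.Ore.Ru.C15a
import Cfsg.Agent.H51.Ore.Ru.C16a
import Cfsg.Agent.H51.Ore.Ru.C20a
import Cfsg.Agent.H51.Ore.Ru.C20b
import Cfsg.Agent.H51.Ore.Ru.C20c
import Cfsg.Agent.H51.Ore.Ru.C24a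
import Cfsg.Agent.H51.Ore.Ru.C24b
import Cfsg.Agent.H51.Ore.Ru.C26a
import Cfsg.Agent.H51.Ore.Ru.C26b
import Cfsg.Agent.H51.Ore.Ru.C26c
import Cfsg.Agent.H51.Ore.Ru.C29a
import Cfsg.Agent.H51.Ore.Ru.C29b

/-!
# The 36 conjugacy classes of the Rudvalis group, S2443 and S4171 for Ru (helper51)

`cls` is the list of representatives (words in the letters of `RuD.Letters.ml`), with the orders of the centralizers and
the invariants. `cover`: every element of `RuOrder.H` is conjugate to a representative or to the inverse of the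
representative of order 16. All representatives are commutators and products of four involutions.
-/

set_option autoImplicit false
set_option maxRecDepth 100000
set_option exponentiation.threshold 5000

namespace Cfsg.Agent.H51.Ore.Ru

open Subgroup Cfsg.Agent.Lib Cfsg.Agent.Lib.BitNet Cfsg.Agent.SporadicB Cfsg.Agent.SporadicB.RuData
open Cfsg.Agent.SporadicB.RuOrder Cfsg.Agent.RuD.Data Cfsg.Agent.SporRec.TCUpperCert Cfsg.Agent.SporRec.R3.Kernel
open Cfsg.Agent.RuD.Letters Cfsg.Agent.KFacts.Ru.CentEng Cfsg.Agent.CpAutRuFive.Eng Cfsg.Agent.H777.Ore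

/-- the representatives: word, order of the centralizer, invariants (the two classes of order 16 are represented by
`w_16a` and its inverse) -/
def cls : List Cl := [
  ⟨[], 145926144000, (0, 0)⟩,
  ⟨w_2a, 116480, (0, 1820)⟩,
  ⟨w_2b, 245760, (0, 1920)⟩,
  ⟨w_3a, 2160, (1890, 0)⟩,
  ⟨w_4a, 3840, (0, 840)⟩,
  ⟨w_4b, 7680, (960, 1020)⟩,
  ⟨w_4c, 1024, (768, 1880)⟩,
  ⟨w_4d, 512, (896, 1940)⟩,
  ⟨w_5a, 300, (300, 300)⟩,
  ⟨w_5b, 1000, (250, 250)⟩,
  ⟨w_6a, 48, (714, 864)⟩,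
  ⟨w_7a, 28, (812, 812)⟩,
  ⟨w_8a, 32, (948, 954)⟩,
  ⟨w_8b, 64, (536, 536)⟩,
  ⟨w_8c, 96, (420, 438)⟩,
  ⟨w_10a, 20, (700, 1020)⟩,
  ⟨w_10b, 40, (610, 610)⟩,
  ⟨w_12a, 24, (762, 360)⟩,
  ⟨w_12b, 12, (762, 372)⟩,
  ⟨w_13a, 52, (416, 728)⟩,
  ⟨w_14a, 28, (700, 812)⟩,
  ⟨w_14b, 28, (812, 868)⟩,
  ⟨w_14c, 28, (924, 756)⟩,
  ⟨w_15a, 15, (720, 720)⟩,
  ⟨w_16a, 16, (600, 794)⟩,
  ⟨w_20a, 20, (690, 820)⟩,
  ⟨w_20b, 20, (850, 740)⟩,
  ⟨w_20c, 20, (770, 850)⟩,
  ⟨w_24a, 24, (780, 540)⟩,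
  ⟨w_24b, 24, (780, 732)⟩,
  ⟨w_26a, 52, (676, 1092)⟩,
  ⟨w_26b, 52, (676, 884)⟩,
  ⟨w_26c, 52, (884, 780)⟩,
  ⟨w_29a, 29, (696, 580)⟩,
  ⟨w_29b, 29, (812, 696)⟩]

theorem ok_one : Cl.OK ⟨[], 145926144000, (0, 0)⟩ := by
  have hfin : Finite RuOrder.H := Nat.finite_of_card_ne_zero (by rw [card_H]; norm_num)
  have a1 : chkAdj (rpw [] 1) 0 = true := by decide +kernel
  have a2 : chkAdj (rpw [] 2) 0 = true := by decide +kernel
  have a3 : chkAdj (rpw [] 3) 0 = true := by decide +kernel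
  refine ⟨?_, ?_, good_one⟩
  · rw [← card_H]
    exact Nat.card_le_card_of_injective _ Subtype.val_injective
  · rw [phi_word a1 a2 (by decide +kernel), phi_word a1 a3 (by decide +kernel)]
    decide +kernel

theorem cls_ok : ∀ r ∈ cls, Cl.OK r := by
  intro r hr
  simp only [cls, List.mem_cons, List.not_mem_nil, or_false] at hr
  rcases hr with rfl | rfl | rfl | rfl | rfl | rfl | rfl | rfl | rfl | rfl | rfl | rfl | rfl | rfl | rfl | rfl | rfl | rfl | rfl | rfl | rfl | rfl | rfl | rfl | rfl | rfl | rfl | rfl | rfl | rfl | rfl | rfl | rfl | rfl | rfl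
  exacts [ok_one, ok_2a, ok_2b, ok_3a, ok_4a, ok_4b, ok_4c, ok_4d, ok_5a, ok_5b, ok_6a, ok_7a, ok_8a, ok_8b, ok_8c, ok_10a, ok_10b, ok_12a, ok_12b, ok_13a, ok_14a, ok_14b, ok_14c, ok_15a, ok_16a, ok_20a, ok_20b, ok_20c, ok_24a, ok_24b, ok_26a, ok_26b, ok_26c, ok_29a, ok_29b]

theorem cls_nodup : (cls.map Cl.p).Nodup := by decide +kernel

theorem cls_sum : 145926144000 ≤ 145926144000 / 16 + (cls.map fun r => 145926144000 / r.c).sum := by decide +kernel

/-- the invariants as functions on the classes -/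
noncomputable def phiC : ConjClasses RuOrder.H → ℕ × ℕ :=
  Quotient.lift (fun g => (phi 2 g, phi 3 g)) fun _ _ h => Prod.ext (phi_conj 2 h) (phi_conj 3 h)

/-- the element of order 16 is not conjugate to its inverse -/
theorem not_conj_16 : ¬ IsConj (wprod ml w_16a) (wprod ml w_16a)⁻¹ := by
  have hfin : Finite RuOrder.H := Nat.finite_of_card_ne_zero (by rw [card_H]; norm_num)
  have h1 := card_e (w := w_16a) (l := e_16a) (ms := [m1_16a, m2_16a, m3_16a]) (by
    intro m hm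
    simp only [List.mem_cons, List.not_mem_nil, or_false] at hm
    rcases hm with rfl | rfl | rfl
    exacts [⟨1, a1_16a⟩, ⟨2, a2_16a⟩, ⟨3, a3_16a⟩]) re_16a
  have ho : orderOf (wprod ml w_16a : RuOrder.H) = 16 := by
    refine orderOf_eq_prime_pow (p := 2) (n := 3) ?_ ?_
    · rw [← wprod_rpw]
      exact ne_one_of (b := 0) (by norm_num) (by decide +kernel)
    · rw [← wprod_rpw]
      exact rel_of_chk (rels := [rpw w_16a (2 ^ (3 + 1))]) (by decide +kernel) _ (List.mem_singleton_self _)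
  refine not_isConj_inv h1 ho.ge ?_
  intro h2
  have h3 : (wprod ml w_16a : RuOrder.H) ^ 2 = 1 := by
    rw [pow_two]
    nth_rw 1 [← h2]
    exact inv_mul_cancel _
  have h4 := orderOf_dvd_of_pow_eq_one h3
  rw [ho] at h4
  exact absurd (Nat.le_of_dvd (by norm_num) h4) (by norm_num)

/-- **the class list of the Rudvalis group** -/
theorem cover (g : RuOrder.H) : (∃ r ∈ cls, IsConj (wprod ml r.w) g) ∨ IsConj (wprod ml w_16a)⁻¹ g := by
  have hfin : Finite RuOrder.H := Nat.finite_of_card_ne_zero (by rw [card_H]; norm_num)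
  have hmem : (⟨w_16a, 16, (600, 794)⟩ : Cl) ∈ cls := by simp [cls]
  obtain ⟨p, hp, hpg⟩ := Cfsg.Agent.H235.Ore.ClassList.complete
    ((((wprod ml w_16a)⁻¹ : RuOrder.H), 16) :: cls.map fun r => ((wprod ml r.w : RuOrder.H), r.c)) (by
      intro p hp
      rw [List.mem_cons, List.mem_map] at hp
      rcases hp with rfl | ⟨r, hr, rfl⟩
      · rw [Cfsg.Agent.H235.Ore.ClassList.card_cent_inv]
        exact (cls_ok _ hmem).1
      · exact (cls_ok _ hr).1) (by
      have h1 : ((cls.map fun r => ((wprod ml r.w : RuOrder.H), r.c)).map fun p => ConjClasses.mk p.1).map phiC =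
          cls.map Cl.p := by
        rw [List.map_map, List.map_map]
        apply List.map_congr_left
        intro r hr
        exact (cls_ok r hr).2.1
      have h2 : ((cls.map fun r => ((wprod ml r.w : RuOrder.H), r.c)).map fun p => ConjClasses.mk p.1).Nodup := by
        apply List.Nodup.of_map phiC
        rw [h1]
        exact cls_nodup
      rw [List.map_cons, List.nodup_cons]
      refine ⟨?_, h2⟩
      intro h3
      rw [List.map_map, List.mem_map] at h3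
      obtain ⟨r, hr, h4⟩ := h3
      have h5 : r = ⟨w_16a, 16, (600, 794)⟩ := by
        refine List.inj_on_of_nodup_map cls_nodup hr hmem ?_
        have h6 := congrArg phiC h4
        have h7 : phiC (ConjClasses.mk (wprod ml w_16a : RuOrder.H)⁻¹) = (600, 794) := by
          refine Eq.trans ?_ (cls_ok _ hmem).2.1
          exact Prod.ext (phi_inv 2 _) (phi_inv 3 _)
        rw [← (cls_ok r hr).2.1]
        exact h6.trans h7
      rw [h5] at h4
      exact not_conj_16 (ConjClasses.mk_eq_mk_iff_isConj.1 h4)) (by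
      rw [card_H, List.map_cons, List.sum_cons, List.map_map]
      exact cls_sum) g
  rw [List.mem_cons, List.mem_map] at hp
  rcases hp with rfl | ⟨r, hr, rfl⟩
  · exact Or.inr hpg
  · exact Or.inl ⟨r, hr, hpg⟩

theorem good (g : RuOrder.H) : Good g := by
  rcases cover g with ⟨r, hr, h⟩ | h
  · exact (cls_ok r hr).2.2.of_isConj h
  · exact (g_16a.inv).of_isConj h

/-- **S2443, row Ru** -/
theorem ore_ru {S : Type*} [Group S] (h : Cfsg.Spor.IsoRu S) : AllC S := by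
  obtain ⟨e⟩ := h
  exact AllC.congr (e.trans Cfsg.Agent.RuLat.Main.equiv).symm fun g => (good g).1

/-- **S4171, row Ru** -/
theorem four_ru {S : Type*} [Group S] (h : Cfsg.Spor.IsoRu S) : Inv4 S := by
  obtain ⟨e⟩ := h
  set f := e.trans Cfsg.Agent.RuLat.Main.equiv with hf
  intro x
  obtain ⟨a, b, c, d, ha, hb, hc, hd, hx⟩ := (good (f x)).2
  refine ⟨f.symm a, f.symm b, f.symm c, f.symm d, ?_, ?_, ?_, ?_, ?_⟩
  · rw [← map_mul, ha, map_one]
  · rw [← map_mul, hb, map_one]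
  · rw [← map_mul, hc, map_one]
  · rw [← map_mul, hd, map_one]
  · rw [← map_mul, ← map_mul, ← map_mul, ← hx, f.symm_apply_apply]

end Cfsg.Agent.H51.Ore.Ru
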