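import Cfsg.Agent.CpAutRuFive.Eng
import Cfsg.Agent.H777.Ore.Base
import Cfsg.Agent.H235.Ore.ClassList

/-!
# The classes of the Rudvalis group: tools (helper51)

In the model `RuOrder.H` (automorphism group of the graph on 4060 points). For a word `w` the mask `M_k` consists of the
points adjacent to their image under `w ^ k`. The numbers `|M₁ ∩ M₂|` and `|M₁ ∩ M₃|` are class functions (`phi`).
`card_c` bounds the centralizer of `w`, `card_e` bounds the group `E` of the elements conjugating `w` to `w` or `w⁻¹`.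
-/

set_option autoImplicit false
set_option maxRecDepth 100000
set_option exponentiation.threshold 5000

namespace Cfsg.Agent.H51.Ore.Ru

open Subgroup Cfsg.Agent.Lib Cfsg.Agent.Lib.BitNet Cfsg.Agent.SporadicB Cfsg.Agent.SporadicB.RuData
open Cfsg.Agent.SporadicB.RuOrder Cfsg.Agent.RuD.Data Cfsg.Agent.SporRec.TCUpperCert Cfsg.Agent.SporRec.R3.Kernel
open Cfsg.Agent.RuD.Letters Cfsg.Agent.KFacts.Ru.CentEng Cfsg.Agent.CpAutRuFive.Eng Cfsg.Agent.H777.Ore

/-- repeated words -/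
def rpw (w : List ℕ) : ℕ → List ℕ
  | 0 => []
  | n + 1 => w ++ rpw w n

theorem wprod_rpw (w : List ℕ) (n : ℕ) : wprod ml (rpw w n) = wprod ml w ^ n := by
  induction n with
  | zero => rfl
  | succ n ih => rw [rpw, wprod_append, ih, pow_succ']

/-- the adjacency relation -/
def adj (i j : Fin 4060) : Prop := (row i).testBit j = true

theorem adj_symm {i j : Fin 4060} (h : adj i j) : adj j i := by
  have h1 := symCheck_sound sym (u := (i : ℕ)) (v := (j : ℕ)) (lt_trans i.2 (by norm_num)) (lt_trans j.2 (by norm_num))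
  unfold adj at h ⊢
  rw [← h1]
  exact h

theorem adj_comm {i j : Fin 4060} : adj i j ↔ adj j i := ⟨adj_symm, adj_symm⟩

theorem adj_map (x : RuOrder.H) (i j : Fin 4060) :
    adj ((x : Equiv.Perm (Fin 4060)) i) ((x : Equiv.Perm (Fin 4060)) j) ↔ adj i j := by
  unfold adj
  rw [x.2 i j]

/-- the points adjacent to their image under `g ^ k` -/
def adS (k : ℕ) (g : RuOrder.H) : Set (Fin 4060) := {i | adj i (((g ^ k : RuOrder.H) : Equiv.Perm (Fin 4060)) i)}

theorem mul_apply' (x y : RuOrder.H) (i : Fin 4060) : ((x * y : RuOrder.H) : Equiv.Perm (Fin 4060)) i =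
    (x : Equiv.Perm (Fin 4060)) ((y : Equiv.Perm (Fin 4060)) i) := rfl

theorem adS_conj (k : ℕ) (x g : RuOrder.H) (i : Fin 4060) :
    (x : Equiv.Perm (Fin 4060)) i ∈ adS k (x * g * x⁻¹) ↔ i ∈ adS k g := by
  have h : ((((x * g * x⁻¹) ^ k : RuOrder.H)) : Equiv.Perm (Fin 4060)) ((x : Equiv.Perm (Fin 4060)) i) =
      (x : Equiv.Perm (Fin 4060)) (((g ^ k : RuOrder.H) : Equiv.Perm (Fin 4060)) i) := by
    rw [conj_pow, ← mul_apply', inv_mul_cancel_right, mul_apply']
  change adj _ _ ↔ adj _ _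
  rw [h]
  exact adj_map x _ _

theorem adS_inv (k : ℕ) (g : RuOrder.H) : adS k g⁻¹ = adS k g := by
  ext i
  change adj _ _ ↔ adj _ _
  rw [← adj_map (g ^ k) i (((g⁻¹ ^ k : RuOrder.H) : Equiv.Perm (Fin 4060)) i), ← mul_apply', inv_pow, mul_inv_cancel]
  exact adj_comm

/-- the class functions -/
noncomputable def phi (k : ℕ) (g : RuOrder.H) : ℕ := Nat.card {i : Fin 4060 // i ∈ adS 1 g ∧ i ∈ adS k g}

theorem phi_conj (k : ℕ) {x y : RuOrder.H} (h : IsConj x y) : phi k x = phi k y := by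
  obtain ⟨c, rfl⟩ := isConj_iff.1 h
  refine Nat.card_congr (Equiv.subtypeEquiv (c : Equiv.Perm (Fin 4060)) fun i => ?_)
  rw [adS_conj, adS_conj]

theorem phi_inv (k : ℕ) (g : RuOrder.H) : phi k g⁻¹ = phi k g := by
  rw [phi, phi, adS_inv, adS_inv]

theorem mem_adS {w : List ℕ} {k M : ℕ} (h : chkAdj (rpw w k) M = true) (i : Fin 4060) :
    M.testBit i = true ↔ i ∈ adS k (wprod ml w) := by
  rw [testBit_adj h, wprod_rpw]
  rfl

theorem phi_word {w : List ℕ} {k M N : ℕ} (h1 : chkAdj (rpw w 1) M = true) (h2 : chkAdj (rpw w k) N = true)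
    (hM : Nat.blt M (Nat.pow 2 4060) = true) : phi k (wprod ml w) = popc 12 (Nat.land M N) := by
  have h3 : phi k (wprod ml w) = (pts 4060 (Nat.land M N)).card := by
    classical
    rw [phi, Nat.card_eq_fintype_card, Fintype.card_subtype]
    congr 1
    ext i
    rw [mem_pts, Finset.mem_filter, ← mem_adS h1, ← mem_adS h2]
    change _ ↔ (M &&& N).testBit i = true
    rw [Nat.testBit_and, Bool.and_eq_true]
    exact ⟨fun h => h.2, fun h => ⟨Finset.mem_univ _, h⟩⟩
  rw [h3]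
  apply le_antisymm
  · exact card_pts_le (by norm_num) _
  · apply card_pts_eq
    intro i hi
    by_contra hge
    change (M &&& N).testBit i = true at hi
    rw [Nat.testBit_and, Bool.and_eq_true] at hi
    rw [Nat.blt_eq] at hM
    have h4 : M < 2 ^ i := lt_of_lt_of_le hM (Nat.pow_le_pow_right (by norm_num) (not_lt.1 hge))
    rw [Nat.testBit_lt_two_pow h4] at hi
    exact absurd hi.1 (by decide)

/-! ### bounds of centralizers -/

theorem comm_rpw {w : List ℕ} {x : RuOrder.H} (h : x * wprod ml w = wprod ml w * x) (k : ℕ) :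
    x * wprod ml (rpw w k) = wprod ml (rpw w k) * x := by
  rw [wprod_rpw]
  exact ((show Commute x (wprod ml w) from h).pow_right k).eq

theorem card_c {w : List ℕ} {l : List St} {N : ℕ} {ms : List ℕ}
    (hm : ∀ m ∈ ms, ∃ k : ℕ, chkAdj (rpw w k) m = true) (h : run w l ms = some N) :
    Nat.card ↥(centralizer ({wprod ml w} : Set RuOrder.H)) ≤ N := by
  have h1 : Nat.card (Cen [w]) ≤ N := by
    refine card_le_of_run (w := w) (List.mem_singleton.2 rfl) ?_ h
    intro m hm'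
    obtain ⟨k, hk⟩ := hm m hm'
    exact ⟨_, fun x hx => comm_rpw (hx _ (List.mem_singleton.2 rfl)) k, hk⟩
  have h2 : centralizer ({wprod ml w} : Set RuOrder.H) = Cen [w] := by
    ext x
    rw [mem_centralizer_singleton_iff, mem_Cen]
    exact ⟨fun h w hw => by rw [List.mem_singleton.1 hw]; exact h, fun h => h _ (List.mem_singleton.2 rfl)⟩
  rw [h2]
  exact h1

/-- the elements conjugating `g` to itself or its inverse -/
def E {G : Type*} [Group G] (g : G) : Subgroup G where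
  carrier := {x | x * g * x⁻¹ = g ∨ x * g * x⁻¹ = g⁻¹}
  one_mem' := Or.inl (by simp)
  mul_mem' := by
    rintro x y hx hy
    have h : x * y * g * (x * y)⁻¹ = x * (y * g * y⁻¹) * x⁻¹ := by group
    have h2 : x * g⁻¹ * x⁻¹ = (x * g * x⁻¹)⁻¹ := by group
    change x * y * g * (x * y)⁻¹ = g ∨ x * y * g * (x * y)⁻¹ = g⁻¹
    rw [h]
    rcases hx with hx | hx <;> rcases hy with hy | hy
    · left; rw [hy, hx]
    · right; rw [hy, h2, hx]
    · right; rw [hy, hx]
    · left; rw [hy, h2, hx, inv_inv]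
  inv_mem' := by
    rintro x (hx | hx)
    · left
      calc x⁻¹ * g * x⁻¹⁻¹ = x⁻¹ * (x * g * x⁻¹) * x⁻¹⁻¹ := by rw [hx]
        _ = g := by group
    · right
      have h2 : g = (x * g * x⁻¹)⁻¹ := by rw [hx, inv_inv]
      calc x⁻¹ * g * x⁻¹⁻¹ = x⁻¹ * (x * g * x⁻¹)⁻¹ * x⁻¹⁻¹ := by rw [← h2]
        _ = g⁻¹ := by group

theorem mem_E {G : Type*} [Group G] {g x : G} : x ∈ E g ↔ x * g * x⁻¹ = g ∨ x * g * x⁻¹ = g⁻¹ := Iff.rfl

theorem inv_of_mem_E {w : List ℕ} {k M : ℕ} (h : chkAdj (rpw w k) M = true) {x : RuOrder.H}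
    (hx : x ∈ E (wprod ml w)) : Inv (x : Equiv.Perm (Fin 4060)) M := by
  intro i
  rw [Bool.eq_iff_iff, mem_adS h, mem_adS h, ← adS_conj k x (wprod ml w) i]
  rcases hx with hx | hx
  · rw [hx]
  · rw [hx, adS_inv]

theorem card_e {w : List ℕ} {l : List Ins} {N : ℕ} {ms : List ℕ}
    (hm : ∀ m ∈ ms, ∃ k : ℕ, chkAdj (rpw w k) m = true) (h : ub 12 4060 row l ms = some N) :
    Nat.card ↥(E (wprod ml w)) ≤ N := by
  have h1 : Nat.card ((E (wprod ml w)).map RuOrder.H.subtype) ≤ N := by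
    refine ub_sound (K := 12) (by norm_num) l _ _ h _ ?_ ?_
    · rintro _ ⟨x, -, rfl⟩
      exact x.2
    · rintro _ ⟨x, hx, rfl⟩ m hm'
      obtain ⟨k, hk⟩ := hm m hm'
      exact inv_of_mem_E hk hx
  rwa [Nat.card_congr ((E (wprod ml w)).equivMapOfInjective RuOrder.H.subtype RuOrder.H.subtype_injective).toEquiv]

theorem two_mul_card {G : Type*} [Group G] [Finite G] {g s : G} (hs : s * g * s⁻¹ = g⁻¹) (hg : g⁻¹ ≠ g) :
    2 * Nat.card ↥(centralizer ({g} : Set G)) ≤ Nat.card ↥(E g) := by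
  have hC : ∀ c : ↥(centralizer ({g} : Set G)), (c : G) * g * (c : G)⁻¹ = g := by
    intro c
    have := mem_centralizer_singleton_iff.1 c.2
    rw [this]
    group
  have hS : ∀ c : ↥(centralizer ({g} : Set G)), s * (c : G) * g * (s * (c : G))⁻¹ = g⁻¹ := by
    intro c
    rw [show s * (c : G) * g * (s * (c : G))⁻¹ = s * (c * g * (c : G)⁻¹) * s⁻¹ by group, hC, hs]
  let f : ↥(centralizer ({g} : Set G)) ⊕ ↥(centralizer ({g} : Set G)) → ↥(E g) :=
    Sum.elim (fun c => ⟨(c : G), Or.inl (hC c)⟩) (fun c => ⟨s * (c : G), Or.inr (hS c)⟩)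
  have hf : Function.Injective f := by
    rintro (c | c) (d | d) h
    · have h1 : (c : G) = d := congrArg (fun z : ↥(E g) => (z : G)) h
      rw [Subtype.ext h1]
    · have h1 : (c : G) = s * d := congrArg (fun z : ↥(E g) => (z : G)) h
      have h2 := hS d
      rw [← h1, hC c] at h2
      exact absurd h2.symm hg
    · have h1 : s * c = (d : G) := congrArg (fun z : ↥(E g) => (z : G)) h
      have h2 := hS c
      rw [h1, hC d] at h2
      exact absurd h2.symm hg
    · have h1 : s * (c : G) = s * d := congrArg (fun z : ↥(E g) => (z : G)) h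
      rw [Subtype.ext (mul_left_cancel h1)]
  have h1 := Nat.card_le_card_of_injective f hf
  rwa [Nat.card_sum, ← two_mul] at h1

/-- the element is not conjugate to its inverse -/
theorem not_isConj_inv {G : Type*} [Group G] [Finite G] {g : G} {n : ℕ} (h : Nat.card ↥(E g) ≤ n) (hn : n ≤ orderOf g)
    (hg : g⁻¹ ≠ g) : ¬ IsConj g g⁻¹ := by
  intro hc
  obtain ⟨s, hs⟩ := isConj_iff.1 hc
  have h1 := two_mul_card hs hg
  have h2 : orderOf g ≤ Nat.card ↥(centralizer ({g} : Set G)) := by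
    rw [← Nat.card_zpowers]
    apply Nat.card_le_card_of_injective (fun x : zpowers g => (⟨x, by
      obtain ⟨k, hk⟩ := mem_zpowers_iff.1 x.2
      rw [mem_centralizer_singleton_iff, ← hk]
      exact (Commute.refl g).zpow_left k⟩ : ↥(centralizer ({g} : Set G))))
    intro x y hxy
    exact Subtype.ext (congrArg (fun z : ↥(centralizer ({g} : Set G)) => (z : G)) hxy)
  have h3 : 0 < Nat.card ↥(centralizer ({g} : Set G)) := Nat.card_pos
  omega

theorem card_cent_le {G : Type*} [Group G] [Finite G] (g : G) :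
    Nat.card ↥(centralizer ({g} : Set G)) ≤ Nat.card ↥(E g) := by
  apply Nat.card_le_card_of_injective (fun x : ↥(centralizer ({g} : Set G)) => (⟨x, by
    left
    have := mem_centralizer_singleton_iff.1 x.2
    rw [this]
    group⟩ : ↥(E g)))
  intro x y hxy
  exact Subtype.ext (congrArg (fun z : ↥(E g) => (z : G)) hxy)

/-! ### representatives -/

/-- commutator and product of four involutions -/
def Good {G : Type*} [Group G] (g : G) : Prop := IsC g ∧ I4 g

theorem i4_of_isConj {G : Type*} [Group G] {g h : G} (hg : I4 g) (e : IsConj g h) : I4 h := by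
  obtain ⟨a, b, c, d, ha, hb, hc, hd, rfl⟩ := hg
  obtain ⟨x, rfl⟩ := isConj_iff.1 e
  have key : ∀ y : G, y * y = 1 → x * y * x⁻¹ * (x * y * x⁻¹) = 1 := by
    intro y hy
    rw [show x * y * x⁻¹ * (x * y * x⁻¹) = x * (y * y) * x⁻¹ by group, hy]
    group
  exact ⟨_, _, _, _, key a ha, key b hb, key c hc, key d hd, by group⟩

theorem i4_inv {G : Type*} [Group G] {g : G} (hg : I4 g) : I4 g⁻¹ := by
  obtain ⟨a, b, c, d, ha, hb, hc, hd, rfl⟩ := hg
  refine ⟨d, c, b, a, hd, hc, hb, ha, ?_⟩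
  have key : ∀ y : G, y * y = 1 → y⁻¹ = y := fun y hy => inv_eq_of_mul_eq_one_left hy
  rw [mul_inv_rev, mul_inv_rev, mul_inv_rev, key a ha, key b hb, key c hc, key d hd]
  group

theorem Good.of_isConj {G : Type*} [Group G] {g h : G} (hg : Good g) (e : IsConj g h) : Good h :=
  ⟨hg.1.of_isConj e, i4_of_isConj hg.2 e⟩

theorem Good.inv {G : Type*} [Group G] {g : G} (hg : Good g) : Good g⁻¹ := ⟨hg.1.inv, i4_inv hg.2⟩

/-- `[t u, b]` with involutions `t, u` -/
theorem good_a {G : Type*} [Group G] {t u b : G} (ht : t * t = 1) (hu : u * u = 1) :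
    Good (t * u * b * u * t * b⁻¹) := by
  have ht' : t⁻¹ = t := inv_eq_of_mul_eq_one_left ht
  have hu' : u⁻¹ = u := inv_eq_of_mul_eq_one_left hu
  refine ⟨⟨t * u, b, ?_⟩, ⟨t, u, b * u * b⁻¹, b * t * b⁻¹, ht, hu, ?_, ?_, ?_⟩⟩
  · rw [mul_inv_rev, ht', hu']
    group
  · rw [show b * u * b⁻¹ * (b * u * b⁻¹) = b * (u * u) * b⁻¹ by group, hu]
    group
  · rw [show b * t * b⁻¹ * (b * t * b⁻¹) = b * (t * t) * b⁻¹ by group, ht]
    group
  · group

/-- `[a, s]` with an involution `s` -/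
theorem good_b {G : Type*} [Group G] {a s : G} (hs : s * s = 1) : Good (a * s * a⁻¹ * s) := by
  have hs' : s⁻¹ = s := inv_eq_of_mul_eq_one_left hs
  refine ⟨⟨a, s, ?_⟩, ⟨a * s * a⁻¹, s, 1, 1, ?_, hs, ?_, ?_, ?_⟩⟩
  · rw [hs']
  · rw [show a * s * a⁻¹ * (a * s * a⁻¹) = a * (s * s) * a⁻¹ by group, hs]
    group
  · group
  · group
  · group

theorem inv_b {G : Type*} [Group G] {a s : G} (hs : s * s = 1) :
    s * (a * s * a⁻¹ * s) * s⁻¹ = (a * s * a⁻¹ * s)⁻¹ := by
  have hs' : s⁻¹ = s := inv_eq_of_mul_eq_one_left hs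
  have h : (a * s * a⁻¹ * s)⁻¹ = s⁻¹ * a * s⁻¹ * a⁻¹ := by group
  rw [h, hs', show s * (a * s * a⁻¹ * s) * s = s * a * s * a⁻¹ * (s * s) by group, hs, mul_one]

theorem good_one {G : Type*} [Group G] : Good (1 : G) :=
  ⟨isC_one, 1, 1, 1, 1, by group, by group, by group, by group, by group⟩

/-- the words of a representative `[t u, b]` -/
theorem good_of {t u b b' w : List ℕ} (h : chkRel [t ++ t, u ++ u, b ++ b'] = true)
    (hw : w = t ++ u ++ b ++ u ++ t ++ b') : Good (wprod ml w) := by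
  have h1 := rel_of_chk h
  have r1 := h1 (t ++ t) (by simp)
  have r2 := h1 (u ++ u) (by simp)
  have r3 := h1 (b ++ b') (by simp)
  rw [wprod_append] at r1 r2 r3
  rw [hw]
  simp only [wprod_append]
  rw [eq_inv_of_mul_eq_one_right r3]
  exact good_a r1 r2

/-- the words of a representative `[a, s]` -/
theorem good_of_b {a a' s w : List ℕ} (h : chkRel [s ++ s, a ++ a'] = true) (hw : w = a ++ s ++ a' ++ s) :
    Good (wprod ml w) ∧ ∃ x : RuOrder.H, x * wprod ml w * x⁻¹ = (wprod ml w)⁻¹ := by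
  have h1 := rel_of_chk h
  have r1 := h1 (s ++ s) (by simp)
  have r3 := h1 (a ++ a') (by simp)
  rw [wprod_append] at r1 r3
  rw [hw]
  simp only [wprod_append]
  rw [eq_inv_of_mul_eq_one_right r3]
  exact ⟨good_b r1, _, inv_b r1⟩

theorem ne_one_of {u : List ℕ} {b : ℕ} (hb : b < 4060) (h : Nat.beq (evalK u b) b = false) : wprod ml u ≠ 1 := by
  intro h1
  have h2 := evalK_eq u ⟨b, hb⟩
  rw [h1] at h2
  have h3 : evalK u b = b := h2.symm
  rw [h3, Nat.beq_refl] at h
  exact absurd h (by decide)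

/-- **a class**: representative, bound of the centralizer, invariants -/
structure Cl where
  w : List ℕ
  c : ℕ
  p : ℕ × ℕ

/-- the facts -/
def Cl.OK (r : Cl) : Prop := Nat.card ↥(centralizer ({wprod ml r.w} : Set RuOrder.H)) ≤ r.c ∧
  (phi 2 (wprod ml r.w), phi 3 (wprod ml r.w)) = r.p ∧ Good (wprod ml r.w)

theorem ok_c {w : List ℕ} {M1 M2 M3 c p q : ℕ} {l : List St} {ms : List ℕ} (a1 : chkAdj (rpw w 1) M1 = true)
    (a2 : chkAdj (rpw w 2) M2 = true) (a3 : chkAdj (rpw w 3) M3 = true) (hM : Nat.blt M1 (Nat.pow 2 4060) = true)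
    (hp : Nat.beq (popc 12 (Nat.land M1 M2)) p = true) (hq : Nat.beq (popc 12 (Nat.land M1 M3)) q = true)
    (hms : ∀ m ∈ ms, m = M1 ∨ m = M2 ∨ m = M3) (h : run w l ms = some c) (hg : Good (wprod ml w)) :
    Cl.OK ⟨w, c, (p, q)⟩ := by
  refine ⟨card_c (fun m hm => ?_) h, ?_, hg⟩
  · rcases hms m hm with rfl | rfl | rfl
    exacts [⟨1, a1⟩, ⟨2, a2⟩, ⟨3, a3⟩]
  · rw [phi_word a1 a2 hM, phi_word a1 a3 hM, Nat.eq_of_beq_eq_true hp, Nat.eq_of_beq_eq_true hq]

theorem ok_e {w : List ℕ} {M1 M2 M3 c p q b : ℕ} {l : List Ins} {ms : List ℕ}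
    (a1 : chkAdj (rpw w 1) M1 = true)
    (a2 : chkAdj (rpw w 2) M2 = true) (a3 : chkAdj (rpw w 3) M3 = true) (hM : Nat.blt M1 (Nat.pow 2 4060) = true)
    (hp : Nat.beq (popc 12 (Nat.land M1 M2)) p = true) (hq : Nat.beq (popc 12 (Nat.land M1 M3)) q = true)
    (hms : ∀ m ∈ ms, m = M1 ∨ m = M2 ∨ m = M3) (h : ub 12 4060 row l ms = some (2 * c)) (hb : b < 4060)
    (h2 : Nat.beq (evalK (rpw w 2) b) b = false)
    (hg : Good (wprod ml w) ∧ ∃ x : RuOrder.H, x * wprod ml w * x⁻¹ = (wprod ml w)⁻¹) :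
    Cl.OK ⟨w, c, (p, q)⟩ := by
  have hfin : Finite RuOrder.H := Nat.finite_of_card_ne_zero (by rw [card_H]; norm_num)
  refine ⟨?_, ?_, hg.1⟩
  · have h1 := card_e (w := w) (fun m hm => by
      rcases hms m hm with rfl | rfl | rfl
      exacts [⟨1, a1⟩, ⟨2, a2⟩, ⟨3, a3⟩]) h
    obtain ⟨x, hx⟩ := hg.2
    have h3 := two_mul_card hx (by
      intro h4
      have h5 := ne_one_of hb h2
      rw [wprod_rpw, pow_two] at h5
      apply h5
      nth_rw 1 [← h4]
      exact inv_mul_cancel _)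
    change Nat.card ↥(centralizer ({wprod ml w} : Set RuOrder.H)) ≤ c
    omega
  · rw [phi_word a1 a2 hM, phi_word a1 a3 hM, Nat.eq_of_beq_eq_true hp, Nat.eq_of_beq_eq_true hq]

end Cfsg.Agent.H51.Ore.Ru
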